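import Cfsg.Agent.H783.Her.StLH
import Cfsg.Agent.H50.HerKnown

/-!
# S4247, row `[L]`: `StLH` (helper783)
-/

set_option autoImplicit false

namespace Cfsg.Agent.H783.Her

/-- **`StLH`** -/
theorem st_lh : Cfsg.Agent.H506.DPL.StLH :=
  st_lh_of Cfsg.Agent.H50.Her.main Cfsg.Agent.H50.Her.altSix Cfsg.Agent.H50.Her.altSeven Cfsg.Agent.H50.Her.thirteen

end Cfsg.Agent.H783.Her
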