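import Cfsg.Agent.H783.Her.Main
import Cfsg.Agent.H50.HerKnown

/-!
# S4247: Hering's theorem and the `p`-part of the order, without hypotheses (helper783)
-/

set_option autoImplicit false

namespace Cfsg.Agent.H783.Her

open Module

universe u

variable {K : Type*} {V : Type u} [Field K] [Fintype K] [AddCommGroup V] [Module K V] [Finite V] {p f n : ℕ}

/-- **Hering's theorem and the `p`-part.** -/
theorem her (hp : p.Prime) (hK : Fintype.card K = p ^ f) (hn : finrank K V = n) (hn3 : 3 ≤ n)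
    (H : Subgroup (Equiv.Perm V)) (hadd : ∀ h ∈ H, ∀ v w : V, h (v + w) = h v + h w)
    (hsemi : ∀ h ∈ H, ∃ σ : K ≃+* K, ∀ (c : K) (v : V), h (c • v) = σ c • h v)
    (htrans : ∀ v w : V, v ≠ 0 → w ≠ 0 → ∃ h ∈ H, ∃ c : K, h v = c • w) :
    (∀ g : V ≃ₗ[K] V, LinearEquiv.det g = 1 → ∃ h ∈ H, ∀ v, h v = g v) ∨
    (Nat.card H).factorization p ≤ (n * f).factorization p ∨
    (∃ a b : ℕ, a * b = n ∧ 2 ≤ a ∧ 2 ≤ b ∧
      (Nat.card H).factorization p ≤ f * (n * (a - 1) / 2) + (b * f).factorization p) ∨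
    (Even n ∧ (Nat.card H).factorization p ≤ f * (n ^ 2 / 4) + f.factorization p) :=
  her_of Cfsg.Agent.H50.Her.main Cfsg.Agent.H50.Her.altSix Cfsg.Agent.H50.Her.altSeven Cfsg.Agent.H50.Her.thirteen
    hp hK hn hn3 H hadd hsemi htrans

/-- a group not containing `SL(V)`: the numerical form -/
theorem her_lt (hp : p.Prime) (hK : Fintype.card K = p ^ f) (hn : finrank K V = n) (hn3 : 3 ≤ n) {n₀ : ℕ}
    (hn₀ : 2 * n₀ + 1 ≤ n)
    (H : Subgroup (Equiv.Perm V)) (hadd : ∀ h ∈ H, ∀ v w : V, h (v + w) = h v + h w)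
    (hsemi : ∀ h ∈ H, ∃ σ : K ≃+* K, ∀ (c : K) (v : V), h (c • v) = σ c • h v)
    (htrans : ∀ v w : V, v ≠ 0 → w ≠ 0 → ∃ h ∈ H, ∃ c : K, h v = c • w)
    (hSL : ¬ ∀ g : V ≃ₗ[K] V, LinearEquiv.det g = 1 → ∃ h ∈ H, ∀ v, h v = g v) :
    (Nat.card H).factorization p + f * (n₀ * (n₀ - 1) / 2) + (2 * f).factorization p < f * (n * (n - 1) / 2) := by
  have hf : 1 ≤ f := by
    rcases Nat.eq_zero_or_pos f with rfl | h
    · rw [pow_zero] at hK
      have := Fintype.one_lt_card (α := K)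
      omega
    · exact h
  exact lt_of hp hf hn3 hn₀ ((her hp hK hn hn3 H hadd hsemi htrans).resolve_left hSL)

/-- the prime degree: `ΓL₁(q ^ n)` -/
theorem her_prime (hp : p.Prime) (hK : Fintype.card K = p ^ f) (hn : finrank K V = n) (hn3 : 3 ≤ n) (hpr : n.Prime)
    (H : Subgroup (Equiv.Perm V)) (hadd : ∀ h ∈ H, ∀ v w : V, h (v + w) = h v + h w)
    (hsemi : ∀ h ∈ H, ∃ σ : K ≃+* K, ∀ (c : K) (v : V), h (c • v) = σ c • h v)
    (htrans : ∀ v w : V, v ≠ 0 → w ≠ 0 → ∃ h ∈ H, ∃ c : K, h v = c • w) :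
    (∀ g : V ≃ₗ[K] V, LinearEquiv.det g = 1 → ∃ h ∈ H, ∀ v, h v = g v) ∨
    (Nat.card H).factorization p ≤ (n * f).factorization p := by
  rcases her hp hK hn hn3 H hadd hsemi htrans with h | h | ⟨a, b, hab, ha, hb, -⟩ | ⟨he, -⟩
  · exact Or.inl h
  · exact Or.inr h
  · exfalso
    rcases hpr.eq_one_or_self_of_dvd a ⟨b, hab.symm⟩ with h | h
    · omega
    · subst h
      have : a * 2 ≤ a * b := Nat.mul_le_mul_left a hb
      omega
  · exfalso
    have := (Nat.Prime.even_iff hpr).1 he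
    omega

end Cfsg.Agent.H783.Her
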