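import Mathlib
import Cfsg.Agent.Lib.FieldAutCard
import Cfsg.Agent.H196.SymForm2

/-!
# S4247: `p`-parts of the orders of groups of semilinear maps (helper783)

* `semi_le` : a group of `F`-semilinear permutations of `V`, `|F| = p ^ g`, `dim V = a`:
  `v_p |H| ≤ g (a (a - 1) / 2) + v_p g`;
* `symp_le` : a group of semisimilarities of a nondegenerate alternating form, `dim V = 2 r`:
  `v_p |H| ≤ g r² + v_p g`.
-/

set_option autoImplicit false
set_option linter.unusedSectionVars false

namespace Cfsg.Agent.H783.Her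

open Module

universe u

/-! ### numbers -/

theorem fac_pow_sub_one {p m : ℕ} (hp : p.Prime) (hm : m ≠ 0) : (p ^ m - 1).factorization p = 0 := by
  apply Nat.factorization_eq_zero_of_not_dvd
  intro h
  have h1 : 1 ≤ p ^ m := Nat.one_le_pow _ _ hp.pos
  have h2 : p ∣ p ^ m := dvd_pow_self p hm
  have h3 : p ∣ p ^ m - (p ^ m - 1) := Nat.dvd_sub h2 h
  rw [Nat.sub_sub_self h1] at h3
  exact hp.one_lt.ne' (Nat.dvd_one.1 h3)

theorem pow_sub_one_ne {p m : ℕ} (hp : p.Prime) (hm : m ≠ 0) : p ^ m - 1 ≠ 0 := by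
  have : 1 < p ^ m := Nat.one_lt_pow hm hp.one_lt
  omega

/-- the order of `GL_a` -/
def cGL (q a : ℕ) : ℕ := ∏ i : Fin a, (q ^ a - q ^ (i : ℕ))

theorem fac_term {p g a i : ℕ} (hp : p.Prime) (hg : g ≠ 0) (hi : i < a) :
    (p ^ g) ^ a - (p ^ g) ^ i ≠ 0 ∧ ((p ^ g) ^ a - (p ^ g) ^ i).factorization p = g * i := by
  have h1 : (p ^ g) ^ a - (p ^ g) ^ i = p ^ (g * i) * (p ^ (g * (a - i)) - 1) := by
    rw [Nat.mul_sub, mul_one, ← pow_add, ← Nat.mul_add, Nat.add_sub_cancel' hi.le, pow_mul, pow_mul]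
  have h2 : g * (a - i) ≠ 0 := Nat.mul_ne_zero hg (by omega)
  rw [h1]
  refine ⟨Nat.mul_ne_zero (pow_ne_zero _ hp.ne_zero) (pow_sub_one_ne hp h2), ?_⟩
  rw [Nat.factorization_mul (pow_ne_zero _ hp.ne_zero) (pow_sub_one_ne hp h2), Finsupp.add_apply,
    fac_pow_sub_one hp h2, add_zero, hp.factorization_pow, Finsupp.single_eq_same]

theorem cGL_ne {p g a : ℕ} (hp : p.Prime) (hg : g ≠ 0) : cGL (p ^ g) a ≠ 0 :=
  Finset.prod_ne_zero_iff.2 fun i _ => (fac_term hp hg i.2).1

theorem fac_cGL {p g a : ℕ} (hp : p.Prime) (hg : g ≠ 0) : (cGL (p ^ g) a).factorization p = g * (a * (a - 1) / 2) := by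
  unfold cGL
  rw [Nat.factorization_prod fun i _ => (fac_term hp hg i.2).1, Finset.sum_apply']
  rw [Finset.sum_congr rfl fun i _ => (fac_term hp hg i.2).2, ← Finset.mul_sum]
  congr 1
  rw [Fin.sum_univ_eq_sum_range (fun i => i) a, Finset.sum_range_id]

theorem cSp_ne {p g r : ℕ} (hp : p.Prime) (hg : g ≠ 0) : H196.SymForm.cSp (p ^ g) r ≠ 0 := by
  unfold H196.SymForm.cSp
  refine Nat.mul_ne_zero (pow_ne_zero _ (pow_ne_zero _ hp.ne_zero)) (Finset.prod_ne_zero_iff.2 fun i _ => ?_)
  rw [← pow_mul]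
  exact pow_sub_one_ne hp (Nat.mul_ne_zero hg (by omega))

theorem fac_cSp {p g r : ℕ} (hp : p.Prime) (hg : g ≠ 0) :
    (H196.SymForm.cSp (p ^ g) r).factorization p = g * r ^ 2 := by
  have h0 : ∀ i ∈ Finset.range r, (p ^ g) ^ (2 * (i + 1)) - 1 ≠ 0 := fun i _ => by
    rw [← pow_mul]
    exact pow_sub_one_ne hp (Nat.mul_ne_zero hg (by omega))
  unfold H196.SymForm.cSp
  rw [Nat.factorization_mul (pow_ne_zero _ (pow_ne_zero _ hp.ne_zero)) (Finset.prod_ne_zero_iff.2 h0), Finsupp.add_apply,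
    Nat.factorization_prod h0, Finset.sum_apply', ← pow_mul, hp.factorization_pow, Finsupp.single_eq_same,
    Finset.sum_eq_zero fun i _ => ?_, add_zero]
  rw [← pow_mul]
  exact fac_pow_sub_one hp (Nat.mul_ne_zero hg (by omega))

theorem card_equiv {K V : Type*} [Field K] [Fintype K] [AddCommGroup V] [Module K V] [FiniteDimensional K V] {n : ℕ}
    (hn : Module.finrank K V = n) : Nat.card (V ≃ₗ[K] V) = cGL (Fintype.card K) n := by
  classical
  have b : Module.Basis (Fin n) K V := Module.finBasisOfFinrankEq K V hn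
  unfold cGL
  rw [← Matrix.card_GL_field]
  exact (Nat.card_congr ((Matrix.GeneralLinearGroup.toLin' b).trans
    (LinearMap.GeneralLinearGroup.generalLinearEquiv K V)).toEquiv).symm

/-! ### semilinear groups -/

section semi

variable {F : Type*} {V : Type u} [Field F] [AddCommGroup V] [Module F V] {H : Subgroup (Equiv.Perm V)}

/-- additive and semilinear -/
structure SL (F : Type*) {V : Type u} [Field F] [AddCommGroup V] [Module F V] (H : Subgroup (Equiv.Perm V)) : Prop where
  add : ∀ h ∈ H, ∀ v w : V, h (v + w) = h v + h w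
  semi : ∀ h ∈ H, ∃ σ : F ≃+* F, ∀ (c : F) (v : V), h (c • v) = σ c • h v

theorem SL.zero (h : SL F H) {x : Equiv.Perm V} (hx : x ∈ H) : x 0 = 0 := by
  have := h.add x hx 0 0
  rw [add_zero] at this
  exact left_eq_add.1 this

/-- the field automorphism -/
noncomputable def SL.sig (h : SL F H) (x : H) : F ≃+* F := (h.semi x x.2).choose

theorem SL.sig_spec (h : SL F H) (x : H) (c : F) (v : V) : (x : Equiv.Perm V) (c • v) = h.sig x c • (x : Equiv.Perm V) v :=
  (h.semi x x.2).choose_spec c v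

theorem SL.uniq [Nontrivial V] (h : SL F H) {x : Equiv.Perm V} (hx : x ∈ H) {σ τ : F ≃+* F}
    (h1 : ∀ (c : F) (v : V), x (c • v) = σ c • x v) (h2 : ∀ (c : F) (v : V), x (c • v) = τ c • x v) : σ = τ := by
  obtain ⟨v, hv⟩ := exists_ne (0 : V)
  have hv' : x v ≠ 0 := by
    rw [← h.zero hx]
    exact fun h => hv (x.injective h)
  ext c
  exact smul_left_injective F hv' ((h1 c v).symm.trans (h2 c v))

theorem SL.sig_eq [Nontrivial V] (h : SL F H) (x : H) {σ : F ≃+* F}
    (h1 : ∀ (c : F) (v : V), (x : Equiv.Perm V) (c • v) = σ c • (x : Equiv.Perm V) v) : h.sig x = σ :=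
  h.uniq x.2 (h.sig_spec x) h1

/-- the homomorphism to the automorphism group of the field -/
noncomputable def SL.phi [Nontrivial V] (h : SL F H) : H →* RingAut F :=
  MonoidHom.mk' (fun x => h.sig x) fun x y => h.sig_eq _ fun c v => by
    change (x : Equiv.Perm V) ((y : Equiv.Perm V) (c • v)) = (h.sig x (h.sig y c)) • (x : Equiv.Perm V) ((y : Equiv.Perm V) v)
    rw [h.sig_spec, h.sig_spec]

theorem SL.lin_of_ker [Nontrivial V] (h : SL F H) (x : H) (hx : h.phi x = 1) (c : F) (v : V) :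
    (x : Equiv.Perm V) (c • v) = c • (x : Equiv.Perm V) v := by
  have h1 : h.sig x = 1 := hx
  rw [h.sig_spec, h1]
  rfl

/-- the linear maps -/
noncomputable def SL.lin [Nontrivial V] (h : SL F H) : h.phi.ker →* (V ≃ₗ[F] V) where
  toFun x := { (x : H).1 with
    map_add' := h.add _ x.1.2
    map_smul' := fun c v => h.lin_of_ker x.1 x.2 c v }
  map_one' := rfl
  map_mul' _ _ := rfl

theorem SL.lin_apply [Nontrivial V] (h : SL F H) (x : h.phi.ker) (v : V) : h.lin x v = x.1.1 v := rfl

theorem SL.lin_injective [Nontrivial V] (h : SL F H) : Function.Injective h.lin := by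
  intro x y hxy
  apply Subtype.ext
  apply Subtype.ext
  ext v
  rw [← h.lin_apply, hxy, h.lin_apply]

theorem card_eq {A B : Type*} [Group A] [Group B] (φ : A →* B) : Nat.card A = Nat.card φ.range * Nat.card φ.ker := by
  rw [← Subgroup.index_ker, mul_comm, Subgroup.card_mul_index]

theorem SL.fac_le [Fintype F] [Finite V] [Nontrivial V] (h : SL F H) {p g : ℕ} [Fact p.Prime] (hg : 1 ≤ g)
    (hF : Fintype.card F = p ^ g) {m : ℕ} (hm : (Nat.card h.phi.ker).factorization p ≤ m) :
    (Nat.card H).factorization p ≤ m + g.factorization p := by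
  have : Finite H := inferInstance
  have h1 : Nat.card h.phi.range ∣ g := by
    have h2 : Nat.card (RingAut F) = g := Cfsg.Agent.Lib.FieldAutCard.card_ringAut hg hF
    rw [← h2]
    exact Subgroup.card_subgroup_dvd_card _
  have h3 : (Nat.card h.phi.range).factorization p ≤ g.factorization p :=
    (Nat.factorization_le_iff_dvd (Nat.pos_of_dvd_of_pos h1 hg).ne' (by omega)).2 h1 p
  have : Finite h.phi.range := Nat.finite_of_card_ne_zero (Nat.pos_of_dvd_of_pos h1 hg).ne'
  rw [card_eq h.phi, Nat.factorization_mul Nat.card_pos.ne' Nat.card_pos.ne', Finsupp.add_apply]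
  omega

/-- **semilinear groups** -/
theorem semi_le [Fintype F] [Finite V] (h : SL F H) {p g a : ℕ} [Fact p.Prime] (hg : 1 ≤ g)
    (hF : Fintype.card F = p ^ g) (ha : finrank F V = a) (ha1 : 1 ≤ a) :
    (Nat.card H).factorization p ≤ g * (a * (a - 1) / 2) + g.factorization p := by
  have hp : p.Prime := Fact.out
  have : Module.Finite F V := Module.Finite.of_finite
  have : Nontrivial V := Module.nontrivial_of_finrank_pos (R := F) (by omega)
  refine h.fac_le hg hF ?_
  have h1 : Nat.card h.phi.ker ∣ cGL (p ^ g) a := by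
    rw [← hF, ← card_equiv ha]
    exact Subgroup.card_dvd_of_injective h.lin h.lin_injective
  rw [← fac_cGL hp (by omega)]
  exact (Nat.factorization_le_iff_dvd Nat.card_pos.ne' (cGL_ne hp (by omega))).2 h1 p

/-- **groups of semisimilarities** -/
theorem symp_le [Fintype F] [Finite V] (h : SL F H) {p g r : ℕ} [Fact p.Prime] (hg : 1 ≤ g)
    (hF : Fintype.card F = p ^ g) (ha : finrank F V = 2 * r) (hr : 1 ≤ r) (f : LinearMap.BilinForm F V)
    (hf : f.IsAlt) (hfn : f.Nondegenerate)
    (hs : ∀ x ∈ H, ∀ σ : F ≃+* F, (∀ (c : F) (v : V), x (c • v) = σ c • x v) →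
      ∃ μ : F, ∀ u v, f (x u) (x v) = μ * σ (f u v)) :
    (Nat.card H).factorization p ≤ g * r ^ 2 + g.factorization p := by
  have hp : p.Prime := Fact.out
  have : Module.Finite F V := Module.Finite.of_finite
  have : Nontrivial V := Module.nontrivial_of_finrank_pos (R := F) (by omega)
  have hchar : CharP F p := by
    obtain ⟨q, hq⟩ := CharP.exists F
    obtain ⟨n, hqp, hn⟩ := FiniteField.card F q
    have : q ∣ p ^ g := by
      rw [← hF, hn]
      exact dvd_pow_self q n.pos.ne'
    rwa [← (Nat.prime_dvd_prime_iff_eq hqp hp).1 (hqp.dvd_of_dvd_pow this)]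
  refine h.fac_le hg hF ?_
  obtain ⟨P⟩ : Nonempty (Sylow p h.phi.ker) := inferInstance
  -- the isometry group
  let I : Subgroup (V ≃ₗ[F] V) :=
    { carrier := {φ | ∀ x y, f (φ x) (φ y) = f x y}
      mul_mem' := fun {a b} h1 h2 x y => by
        change f (a (b x)) (a (b y)) = _
        rw [h1, h2]
      one_mem' := fun x y => rfl
      inv_mem' := fun {a} h1 x y => by
        have h2 := h1 (a⁻¹ x) (a⁻¹ y)
        have h3 : ∀ z, a (a⁻¹ z) = z := fun z => a.apply_symm_apply z
        rw [h3, h3] at h2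
        exact h2.symm }
  have hI : Nat.card I = H196.SymForm.cSp (p ^ g) r := by
    rw [← hF]
    exact H196.SymForm.card_iso_alt f hf hfn ha
  have key : ∀ x ∈ (P : Subgroup h.phi.ker), h.lin x ∈ I := by
    intro x hx
    obtain ⟨μ, hμ⟩ := hs x.1.1 x.1.2 (RingEquiv.refl F) fun c v => h.lin_of_ker x.1 x.2 c v
    have hμ' : ∀ u v, f (h.lin x u) (h.lin x v) = μ * f u v := hμ
    have hpow : ∀ k : ℕ, ∀ u v, f ((h.lin x ^ k) u) ((h.lin x ^ k) v) = μ ^ k * f u v := by
      intro k
      induction k with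
      | zero => intro u v; simp
      | succ k ih =>
        intro u v
        rw [pow_succ', pow_succ']
        change f (h.lin x ((h.lin x ^ k) u)) (h.lin x ((h.lin x ^ k) v)) = _
        rw [hμ', ih]
        ring
    obtain ⟨k, hk⟩ := P.2 ⟨x, hx⟩
    have hk' : x ^ p ^ k = 1 := congrArg Subtype.val hk
    obtain ⟨u, hu⟩ := exists_ne (0 : V)
    obtain ⟨v, hv⟩ : ∃ v, f u v ≠ 0 := by
      by_contra hcon
      push Not at hcon
      exact hu (hfn.1 u hcon)
    have h1 := hpow (p ^ k) u v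
    rw [← map_pow, hk', map_one] at h1
    have h2 : μ ^ p ^ k = 1 := by
      have h3 : (μ ^ p ^ k - 1) * f u v = 0 := by
        rw [sub_mul, one_mul, ← h1]
        exact sub_self _
      exact sub_eq_zero.1 ((mul_eq_zero.1 h3).resolve_right hv)
    have h4 : μ = 1 := by
      have h5 : (μ - 1) ^ p ^ k = 0 := by rw [sub_pow_char_pow, h2, one_pow, sub_self]
      exact sub_eq_zero.1 (pow_eq_zero_iff (pow_ne_zero _ hp.ne_zero) |>.1 h5)
    intro u v
    rw [hμ', h4, one_mul]
  have h1 : Nat.card (P : Subgroup h.phi.ker) ∣ Nat.card I := by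
    refine Subgroup.card_dvd_of_injective ((h.lin.comp (P : Subgroup h.phi.ker).subtype).codRestrict I
      fun x => key x x.2) ?_
    intro x y hxy
    apply Subtype.ext
    exact h.lin_injective (congrArg Subtype.val hxy)
  rw [hI, P.card_eq_multiplicity] at h1
  have h2 := (hp.pow_dvd_iff_le_factorization (cSp_ne hp (by omega))).1 h1
  rwa [fac_cSp hp (by omega)] at h2

end semi

end Cfsg.Agent.H783.Her
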