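import Cfsg.Agent.H783.Her.Semi
import Cfsg.Agent.ClassicalGeometry.PSUAutCount
import Cfsg.Agent.ClassicalGeometry.PSUAutMain
import Cfsg.Agent.SmallSimple.S1000.PSLFacts
import Cfsg.Agent.S0283
import Cfsg.Agent.S0242

/-!
# S4247: the small cases of Hering's theorem (helper783)
-/

set_option autoImplicit false
set_option linter.unusedSectionVars false

namespace Cfsg.Agent.H783.Her

open Module

universe u

/-- a simple group of order not dividing `|GL_k(q)|` acts trivially in dimension `k` -/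
theorem triv {K : Type*} {U : Type*} [Field K] [Fintype K] [AddCommGroup U] [Module K U] [Finite U] {N : Type*}
    [Group N] [IsSimpleGroup N] (R : N →* Module.End K U) (h : ¬ Nat.card N ∣ cGL (Fintype.card K) (finrank K U))
    (x : N) : R x = 1 := by
  have : Module.Finite K U := Module.Finite.of_finite
  have hfin0 : Finite (U ≃ₗ[K] U) := Finite.of_injective (fun g : U ≃ₗ[K] U => (g : U → U)) DFunLike.coe_injective
  have hfin : Finite (Module.End K U)ˣ := Finite.of_equiv _ (LinearMap.GeneralLinearGroup.generalLinearEquiv K U).symm.toEquiv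
  have h1 : R.toHomUnits.ker ≠ ⊥ := by
    intro h2
    apply h
    rw [← card_equiv (K := K) (V := U) rfl,
      ← Nat.card_congr (LinearMap.GeneralLinearGroup.generalLinearEquiv K U).toEquiv]
    exact Subgroup.card_dvd_of_injective R.toHomUnits ((MonoidHom.ker_eq_bot_iff _).1 h2)
  have h2 : R.toHomUnits.ker = ⊤ := (IsSimpleGroup.eq_bot_or_eq_top_of_normal _ inferInstance).resolve_left h1
  have h3 : x ∈ R.toHomUnits.ker := by rw [h2]; exact Subgroup.mem_top x
  exact congrArg Units.val (MonoidHom.mem_ker.1 h3)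

/-- a simple group of linear maps commuting with a linear map of order `p` -/
theorem no_comm {K : Type*} {V : Type*} [Field K] [Fintype K] [AddCommGroup V] [Module K V] [Finite V] {p : ℕ}
    [Fact p.Prime] [CharP K p] {N : Type*} [Group N] [IsSimpleGroup N] (ρ : N →* (V ≃ₗ[K] V))
    (hρ : Function.Injective ρ) {x₀ : N} (hx₀ : x₀ ^ p ≠ 1) (c : V ≃ₗ[K] V) (hc1 : c ≠ 1) (hcp : c ^ p = 1)
    (hcomm : ∀ x, c * ρ x = ρ x * c)
    (hcard : ∀ k, k < finrank K V → ¬ Nat.card N ∣ cGL (Fintype.card K) k) : False := by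
  have hp : p.Prime := Fact.out
  have : Module.Finite K V := Module.Finite.of_finite
  have hnt : Nontrivial V := by
    by_contra h
    rw [not_nontrivial_iff_subsingleton] at h
    exact hc1 (LinearEquiv.ext fun v => Subsingleton.elim _ _)
  let C : Module.End K V := (c : V →ₗ[K] V)
  have hC : C ^ p = 1 := by
    have h1 : ∀ k : ℕ, ((c ^ k : V ≃ₗ[K] V) : V →ₗ[K] V) = C ^ k := by
      intro k
      induction k with
      | zero => rfl
      | succ k ih =>
        rw [pow_succ, pow_succ, ← ih]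
        rfl
    rw [← h1, hcp]
    rfl
  have hch : CharP (Module.End K V) p :=
    (RingHom.charP_iff (algebraMap K (Module.End K V)) (FaithfulSMul.algebraMap_injective K (Module.End K V)) p).1
      inferInstance
  have hnil : (C - 1) ^ p = 0 := by
    rw [sub_pow_char_of_commute p (Commute.one_right C), hC, one_pow, sub_self]
  let W : Submodule K V := LinearMap.ker (C - 1)
  have hmemW : ∀ v, v ∈ W ↔ c v = v := by
    intro v
    rw [LinearMap.mem_ker, LinearMap.sub_apply]
    exact sub_eq_zero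
  have hWtop : W ≠ ⊤ := by
    intro h
    apply hc1
    ext v
    exact (hmemW v).1 (by rw [h]; trivial)
  have hWbot : W ≠ ⊥ := by
    intro h
    have h1 : Function.Injective (⇑(C - 1 : Module.End K V)) := LinearMap.ker_eq_bot.1 h
    have h2 : Function.Injective (⇑((C - 1 : Module.End K V) ^ p)) := by
      rw [Module.End.coe_pow]
      exact h1.iterate p
    rw [hnil] at h2
    obtain ⟨v, hv⟩ := exists_ne (0 : V)
    exact hv (h2 rfl)
  have hinv : ∀ x : N, ∀ w ∈ W, ρ x w ∈ W := by
    intro x w hw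
    rw [hmemW] at hw ⊢
    have h1 : c (ρ x w) = ρ x (c w) := LinearEquiv.congr_fun (hcomm x) w
    rw [h1, hw]
  have hW1 : finrank K W < finrank K V := Submodule.finrank_lt hWtop
  have hW2 : finrank K (V ⧸ W) < finrank K V := by
    have h1 := W.finrank_quotient_add_finrank
    have h2 : 0 < finrank K W := by
      have : Nontrivial W := (Submodule.nontrivial_iff_ne_bot).2 hWbot
      exact Module.finrank_pos
    omega
  let R1 : N →* Module.End K W :=
    { toFun := fun x => (ρ x : V →ₗ[K] V).restrict (hinv x)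
      map_one' := by
        ext w
        show (((ρ 1 : V ≃ₗ[K] V) : V →ₗ[K] V) w : V) = w
        rw [map_one]
        rfl
      map_mul' := fun x y => by
        ext w
        show (((ρ (x * y) : V ≃ₗ[K] V) : V →ₗ[K] V) w : V) = _
        rw [map_mul]
        rfl }
  let R2 : N →* Module.End K (V ⧸ W) :=
    { toFun := fun x => W.mapQ W (ρ x : V →ₗ[K] V) (hinv x)
      map_one' := by
        apply LinearMap.ext
        intro v
        obtain ⟨v, rfl⟩ := W.mkQ_surjective v
        show W.mkQ (((ρ 1 : V ≃ₗ[K] V) : V →ₗ[K] V) v) = W.mkQ v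
        rw [map_one]
        rfl
      map_mul' := fun x y => by
        apply LinearMap.ext
        intro v
        obtain ⟨v, rfl⟩ := W.mkQ_surjective v
        show W.mkQ (((ρ (x * y) : V ≃ₗ[K] V) : V →ₗ[K] V) v) = W.mkQ _
        rw [map_mul]
        rfl }
  have hfq : Finite (V ⧸ W) := Finite.of_surjective _ W.mkQ_surjective
  have ht1 := triv R1 (hcard _ hW1) x₀
  have ht2 := triv R2 (hcard _ hW2) x₀
  have e1 : ∀ w ∈ W, ρ x₀ w = w := fun w hw => congrArg Subtype.val (LinearMap.congr_fun ht1 ⟨w, hw⟩)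
  have e2 : ∀ v, ρ x₀ v - v ∈ W := fun v => by
    have h1 : W.mkQ (ρ x₀ v) = W.mkQ v := LinearMap.congr_fun ht2 (W.mkQ v)
    rw [← sub_eq_zero, ← map_sub] at h1
    exact (Submodule.Quotient.mk_eq_zero W).1 h1
  have e3 : ∀ (k : ℕ) (v : V), (ρ x₀ ^ k) v = v + k • (ρ x₀ v - v) := by
    intro k
    induction k with
    | zero => intro v; simp
    | succ k ih =>
      intro v
      rw [pow_succ']
      change ρ x₀ ((ρ x₀ ^ k) v) = _
      rw [ih, map_add, map_nsmul, e1 _ (e2 v), succ_nsmul]
      abel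
  apply hx₀
  apply hρ
  rw [map_pow, map_one]
  ext v
  rw [e3, ← Nat.cast_smul_eq_nsmul K, CharP.cast_eq_zero, zero_smul, add_zero]
  rfl

section prime

variable {K : Type*} {V : Type u} [Field K] [Fintype K] [AddCommGroup V] [Module K V] [Finite V] [Nontrivial V]
  {H : Subgroup (Equiv.Perm V)} {p : ℕ} [hp : Fact p.Prime]

theorem SL.phi_eq_one (h : SL K H) (hK : Fintype.card K = p) (x : H) : h.phi x = 1 := by
  have h1 : Nat.card (RingAut K) = 1 := Cfsg.Agent.Lib.FieldAutCard.card_ringAut (p := p) le_rfl (by rw [hK, pow_one])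
  have h2 : Subsingleton (RingAut K) := (Nat.card_eq_one_iff_unique.1 h1).1
  exact Subsingleton.elim _ _

/-- over the prime field: linear maps -/
noncomputable def SL.gl (h : SL K H) (hK : Fintype.card K = p) : H →* (V ≃ₗ[K] V) where
  toFun x := h.lin ⟨x, h.phi_eq_one hK x⟩
  map_one' := map_one h.lin
  map_mul' x y := map_mul h.lin ⟨x, h.phi_eq_one hK x⟩ ⟨y, h.phi_eq_one hK y⟩

theorem SL.gl_injective (h : SL K H) (hK : Fintype.card K = p) : Function.Injective (h.gl hK) := fun _ _ hxy =>
  congrArg Subtype.val (h.lin_injective hxy)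

theorem char_of_card (hK : Fintype.card K = p) : CharP K p := by
  obtain ⟨q, hq⟩ := CharP.exists K
  obtain ⟨n, hqp, hn⟩ := FiniteField.card K q
  have : q ∣ p := by
    rw [← hK, hn]
    exact dvd_pow_self q n.pos.ne'
  rwa [← (Nat.prime_dvd_prime_iff_eq hqp hp.out).1 this]

/-- a simple subgroup commuting with an element of order `p` -/
theorem no_comm' (h : SL K H) (hK : Fintype.card K = p) (N : Subgroup H) [IsSimpleGroup N]
    (hx₀ : ∃ x ∈ N, x ^ p ≠ 1) {c : H} (hc : orderOf c = p) (hcomm : ∀ x ∈ N, c * x = x * c)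
    (hcard : ∀ k, k < finrank K V → ¬ Nat.card N ∣ cGL p k) : False := by
  have := char_of_card (K := K) hK
  obtain ⟨x₀, hx, hx₀⟩ := hx₀
  refine no_comm (p := p) ((h.gl hK).comp N.subtype) ((h.gl_injective hK).comp N.subtype_injective)
    (x₀ := ⟨x₀, hx⟩) (fun h1 => hx₀ (congrArg Subtype.val h1)) (h.gl hK c) ?_ ?_ ?_ (by rw [hK]; exact hcard)
  · intro h1
    have h2 : c = 1 := h.gl_injective hK (h1.trans (map_one _).symm)
    rw [h2, orderOf_one] at hc
    exact hp.out.one_lt.ne hc
  · have h1 : c ^ p = 1 := by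
      have h2 := pow_orderOf_eq_one c
      rwa [hc] at h2
    rw [← map_pow, h1, map_one]
  · intro x
    change h.gl hK c * h.gl hK x.1 = h.gl hK x.1 * h.gl hK c
    rw [← map_mul, ← map_mul, hcomm x.1 x.2]

end prime

theorem cGL_three {k : ℕ} (hk : k < 4) : ¬ 5 ∣ cGL 3 k := by
  interval_cases k <;> simp [cGL, Fin.prod_univ_succ]

theorem cGL_two {k : ℕ} (hk : k < 6) : ¬ 6048 ∣ cGL 2 k := by
  interval_cases k <;> simp [cGL, Fin.prod_univ_succ]

theorem card_sl25 : Nat.card (Matrix.SpecialLinearGroup (Fin 2) (ZMod 5)) = 120 := by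
  have : Fact (Nat.Prime 5) := ⟨by norm_num⟩
  have h := Cfsg.Agent.S0242.result (F := ZMod 5) (q := 5) (ZMod.card 5) 2 (by norm_num)
  rw [Fin.prod_univ_two] at h
  have h2 : (5 ^ 2 - 5 ^ ((0 : Fin 2) : ℕ)) * (5 ^ 2 - 5 ^ ((1 : Fin 2) : ℕ)) = 480 := by decide
  rw [h2] at h
  omega

section

variable {K : Type*} {V : Type u} [Field K] [Fintype K] [AddCommGroup V] [Module K V] [Finite V]
  {H : Subgroup (Equiv.Perm V)}

/-- `(n, q) = (4, 3)`, `SL₂(5)` -/
theorem four_three (h : SL K H) (hK : Fintype.card K = 3) (hn : finrank K V = 4) (N : Subgroup H) [N.Normal]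
    (e : N ≃* Matrix.SpecialLinearGroup (Fin 2) (ZMod 5)) : (Nat.card H).factorization 3 ≤ 4 := by
  have f3 : Fact (Nat.Prime 3) := ⟨by norm_num⟩
  have f5 : Fact (Nat.Prime 5) := ⟨by norm_num⟩
  have hnt : Nontrivial V := Module.nontrivial_of_finrank_pos (R := K) (by omega)
  have hN : Nat.card N = 120 := by rw [Nat.card_congr e.toEquiv, card_sl25]
  obtain ⟨P⟩ : Nonempty (Sylow 3 H) := inferInstance
  obtain ⟨y, hy⟩ := exists_prime_orderOf_dvd_card' (G := N) 5 (by rw [hN]; norm_num)
  have hy' : orderOf (y : H) = 5 := by rw [Subgroup.orderOf_coe, hy]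
  -- elements of order 3 do not commute with elements of order 5
  have key : ∀ u ∈ (P : Subgroup H), Commute u (y : H) → u = 1 := by
    intro u hu huy
    by_contra hne
    obtain ⟨k, hk⟩ := (IsPGroup.iff_orderOf.1 P.2) ⟨u, hu⟩
    rw [Subgroup.orderOf_mk] at hk
    have hk0 : k ≠ 0 := by
      rintro rfl
      rw [pow_zero, orderOf_eq_one_iff] at hk
      exact hne hk
    have hc : orderOf (u ^ 3 ^ (k - 1)) = 3 := by
      rw [orderOf_pow_of_dvd (by positivity) (by rw [hk]; exact pow_dvd_pow 3 (by omega)), hk,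
        Nat.pow_div (by omega) (by norm_num)]
      have : k - (k - 1) = 1 := by omega
      rw [this, pow_one]
    have hs : IsSimpleGroup (Subgroup.zpowers (y : H)) :=
      isSimpleGroup_of_prime_card (p := 5) (by rw [Nat.card_zpowers, hy'])
    refine no_comm' h hK (Subgroup.zpowers (y : H)) ⟨y, Subgroup.mem_zpowers _, ?_⟩ hc ?_ ?_
    · intro h1
      have := orderOf_dvd_of_pow_eq_one h1
      rw [hy'] at this
      norm_num at this
    · rintro _ ⟨m, rfl⟩
      exact ((huy.pow_left _).zpow_right m).eq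
    · intro k hk
      rw [Nat.card_zpowers, hy']
      exact cGL_three (by omega)
  -- the map `u ↦ u y u⁻¹`
  have hinj : Function.Injective fun u : (P : Subgroup H) =>
      (⟨(u : H) * y * (u : H)⁻¹, ‹N.Normal›.conj_mem _ y.2 _⟩ : N) := by
    intro u v huv
    have h1 : (u : H) * y * (u : H)⁻¹ = v * y * (v : H)⁻¹ := congrArg Subtype.val huv
    have h2 : Commute ((v : H)⁻¹ * u) (y : H) := by
      show (v : H)⁻¹ * u * y = y * ((v : H)⁻¹ * u)
      calc (v : H)⁻¹ * u * y = (v : H)⁻¹ * (u * y * (u : H)⁻¹) * u := by group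
        _ = (v : H)⁻¹ * (v * y * (v : H)⁻¹) * u := by rw [h1]
        _ = y * ((v : H)⁻¹ * u) := by group
    have h3 := key _ ((P : Subgroup H).mul_mem ((P : Subgroup H).inv_mem v.2) u.2) h2
    exact Subtype.ext (inv_mul_eq_one.1 h3).symm
  have h1 : Nat.card (P : Subgroup H) ≤ 120 := by
    rw [← hN]
    exact Nat.card_le_card_of_injective _ hinj
  rw [P.card_eq_multiplicity] at h1
  by_contra hcon
  have h2 : 3 ^ 5 ≤ 3 ^ (Nat.card H).factorization 3 := Nat.pow_le_pow_right (by norm_num) (by omega)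
  omega

/-- `(n, q) = (6, 2)`, `U₃(3)` -/
theorem six_two (h : SL K H) (hK : Fintype.card K = 2) (hn : finrank K V = 6) {E : Type} [Field E] [Fintype E]
    (hE : Fintype.card E = 9) (N : Subgroup H) [N.Normal] (e : N ≃* Cfsg.PSU 3 E 3) :
    (Nat.card H).factorization 2 ≤ 6 := by
  have f2 : Fact (Nat.Prime 2) := ⟨by norm_num⟩
  have f7 : Fact (Nat.Prime 7) := ⟨by norm_num⟩
  have hnt : Nontrivial V := Module.nontrivial_of_finrank_pos (R := K) (by omega)
  have hN : Nat.card N = 6048 := by
    rw [Nat.card_congr e.toEquiv, Cfsg.Agent.SmallSimple.PSLFacts.card_psu_three_three hE]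
  have hs : IsSimpleGroup (Cfsg.PSU 3 E 3) := Cfsg.Agent.S0283.result (q := 3) (by rw [hE]; norm_num) 3 le_rfl (by norm_num)
  have hsN : IsSimpleGroup N := e.isSimpleGroup
  have hA : Nat.card (MulAut (Cfsg.PSU 3 E 3)) = 48384 / 4 := by
    rw [Cfsg.Agent.ClassicalGeometry.PSUAutCount.card_mulAut_of (q := 3) (p := 3) (f := 1) (by rw [hE]; norm_num) le_rfl
      (by norm_num) le_rfl (by norm_num) fun α => Cfsg.Agent.ClassicalGeometry.PSUAutMain.exists_toAut
        (by rw [hE]; norm_num) le_rfl (by norm_num) α, Cfsg.Agent.SmallSimple.PSLFacts.card_psu_three_three hE]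
    norm_num
  have hA' : Nat.card (MulAut N) = 12096 := by
    rw [Nat.card_congr (MulAut.congr e).toEquiv, hA]
  have hfA : Finite (MulAut N) := Nat.finite_of_card_ne_zero (by rw [hA']; norm_num)
  let ψ : H →* MulAut N := MulAut.conjNormal
  have hker : (Nat.card ψ.ker).factorization 2 = 0 := by
    apply Nat.factorization_eq_zero_of_not_dvd
    intro hd
    obtain ⟨c, hc⟩ := exists_prime_orderOf_dvd_card' (G := ψ.ker) 2 hd
    refine no_comm' h hK N ?_ (c := (c : H)) (by rw [Subgroup.orderOf_coe, hc]) ?_ ?_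
    · obtain ⟨x, hx⟩ := exists_prime_orderOf_dvd_card' (G := N) 7 (by rw [hN]; norm_num)
      refine ⟨x, x.2, fun h1 => ?_⟩
      have h2 := orderOf_dvd_of_pow_eq_one h1
      rw [Subgroup.orderOf_coe, hx] at h2
      norm_num at h2
    · intro x hx
      have h1 : ψ c.1 = 1 := c.2
      have h2 : ((ψ c.1 ⟨x, hx⟩ : N) : H) = c.1 * x * c.1⁻¹ := MulAut.conjNormal_apply _ _
      rw [h1] at h2
      have h3 : x = c.1 * x * c.1⁻¹ := h2
      exact (mul_inv_eq_iff_eq_mul.1 h3.symm)
    · intro k hk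
      rw [hN]
      exact cGL_two (by omega)
  have hr : Nat.card ψ.range ∣ 12096 := by
    rw [← hA']
    exact Subgroup.card_subgroup_dvd_card _
  have hr2 : (Nat.card ψ.range).factorization 2 ≤ 6 := by
    have h1 := (Nat.factorization_le_iff_dvd (Nat.pos_of_dvd_of_pos hr (by norm_num)).ne' (by norm_num)).2 hr 2
    have h2 : (12096 : ℕ).factorization 2 = 6 := by
      rw [show (12096 : ℕ) = 2 ^ 6 * 189 by norm_num, Nat.factorization_mul (by norm_num) (by norm_num),
        Finsupp.add_apply, Nat.prime_two.factorization_pow, Finsupp.single_eq_same,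
        Nat.factorization_eq_zero_of_not_dvd (by norm_num : ¬ 2 ∣ 189)]
    omega
  have : Finite ψ.range := Nat.finite_of_card_ne_zero (Nat.pos_of_dvd_of_pos hr (by norm_num)).ne'
  rw [card_eq ψ, Nat.factorization_mul Nat.card_pos.ne' Nat.card_pos.ne', Finsupp.add_apply]
  omega

end

end Cfsg.Agent.H783.Her
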